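import Cfsg.Agent.Lib.Blocks.DihedralFormula.Count
import Cfsg.Agent.Lib.Blocks.Principal
import Cfsg.Agent.Lib.Blocks.Orthogonality
import Cfsg.Agent.Lib.TwoGroups.DihedralFusion
import Cfsg.Agent.Lib.TwoGroups.Recognition

/-!
# The centralizer of the central involution of a dihedral Sylow 2-subgroup
-/

set_option autoImplicit false

namespace CfsgLib.Blocks.DihedralFormula

open Cfsg CfsgLib CfsgLib.Char
open scoped Classical ComplexConjugate

variable {G : Type*} [Group G] [Fintype G]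

omit [Fintype G] in
/-- A cyclic group has at most one involution. -/
theorem involution_eq [Finite G] {k a b : G} (ha : a ∈ Subgroup.zpowers k)
    (hb : b ∈ Subgroup.zpowers k) (ha2 : a * a = 1) (hb2 : b * b = 1) (ha1 : a ≠ 1) (hb1 : b ≠ 1) :
    a = b := by
  by_contra hne
  have := Fintype.ofFinite (Subgroup.zpowers k)
  have hle := IsCyclic.card_pow_eq_one_le (α := Subgroup.zpowers k) (n := 2) two_pos
  have hsub : ({1, ⟨a, ha⟩, ⟨b, hb⟩} : Finset (Subgroup.zpowers k)) ⊆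
      Finset.univ.filter (fun x => x ^ 2 = 1) := by
    intro x hx
    simp only [Finset.mem_insert, Finset.mem_singleton] at hx
    refine Finset.mem_filter.2 ⟨Finset.mem_univ x, ?_⟩
    rcases hx with rfl | rfl | rfl
    · simp
    · exact Subtype.ext (by simpa [sq] using ha2)
    · exact Subtype.ext (by simpa [sq] using hb2)
  have := (Finset.card_le_card hsub).trans hle
  rw [Finset.card_insert_of_notMem (by simp [Subtype.ext_iff, Ne.symm ha1, Ne.symm hb1]),
    Finset.card_pair (fun e => hne (congrArg Subtype.val e))] at this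
  omega

omit [Fintype G] in
theorem conj_zpow_neg {t s : G} (h : t * s * t⁻¹ = s⁻¹) (i : ℤ) :
    t * s ^ i * t⁻¹ = s ^ (-i) := by
  rw [← conj_zpow, h, inv_zpow, zpow_neg]

/-- The formula at the central involution of a dihedral Sylow 2-subgroup. -/
theorem of_dihedral {M : Ideal AlgInt} (hM : IsPModular 2 M) {n : ℕ} (hn : 3 ≤ n) (P : Sylow 2 G)
    {σ τ : G} (hσ : σ ∈ (P : Subgroup G)) (hτ : τ ∈ (P : Subgroup G))
    (hσo : orderOf σ = 2 ^ (n - 1)) (hτo : orderOf τ = 2) (hrel : τ * σ * τ⁻¹ = σ⁻¹)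
    (hgen : Subgroup.closure ({σ, τ} : Set G) = (P : Subgroup G))
    (hconj : IsConj (σ ^ (2 ^ (n - 2))) τ ∧ IsConj (σ ^ (2 ^ (n - 2))) (σ * τ))
    {χ : IrrCharacter G} (hχ : χ ∈ principalBlock M G) (hχ1 : (χ : G → ℂ) ≠ fun _ => 1) {δ : ℤ}
    (hδ : δ = 1 ∨ δ = -1)
    (hval : ∀ l : ℕ, 0 < l → l < 2 ^ (n - 1) → (χ : G → ℂ) (σ ^ l) = δ) :
    (charDegree (χ : G → ℂ) : ℤ) ≠ δ ∧
      (Nat.card G : ℂ) * ((charDegree (χ : G → ℂ) : ℂ) - δ) ^ 2 =
        2 * (charDegree (χ : G → ℂ) : ℂ) * ((charDegree (χ : G → ℂ) : ℂ) + δ) *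
          (Nat.card (Subgroup.centralizer ({σ ^ (2 ^ (n - 2))} : Set G)) : ℂ) ^ 3 *
          (1 / (Nat.card (Subgroup.centralizer ({σ ^ (2 ^ (n - 2)), τ} : Set G)) : ℂ) +
            1 / (Nat.card (Subgroup.centralizer ({σ ^ (2 ^ (n - 2)), σ * τ} : Set G)) : ℂ)) ^ 2 := by
  have : Fact (Nat.Prime 2) := ⟨Nat.prime_two⟩
  have : M.IsPrime := hM.2.1.isPrime
  set m := 2 ^ (n - 1) with hm
  set q := 2 ^ (n - 2) with hq
  have hmq : m = 2 * q := by rw [hm, hq, ← pow_succ']; congr 1; omega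
  have hq2 : 2 ≤ q := by
    rw [hq]; exact le_trans (by norm_num) (Nat.pow_le_pow_right two_pos (by omega : 1 ≤ n - 2))
  set z := σ ^ q with hz
  set C := Subgroup.centralizer ({z} : Set G) with hC
  have hzo : orderOf z = 2 := by
    rw [hz, orderOf_pow_of_dvd (by omega) (hσo ▸ hmq ▸ dvd_mul_left q 2), hσo, hmq,
      Nat.mul_div_cancel _ (by omega)]
  have hzz : z * z = 1 := by rw [← pow_two, ← hzo, pow_orderOf_eq_one]
  have hz1 : z ≠ 1 := fun e => by rw [e, orderOf_one] at hzo; norm_num at hzo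
  have hττ : τ * τ = 1 := by rw [← pow_two, ← hτo, pow_orderOf_eq_one]
  have hτinv : τ⁻¹ = τ := inv_eq_of_mul_eq_one_right hττ
  have hτσ : τ ∉ Subgroup.zpowers σ := fun hmem => by
    obtain ⟨i, hi⟩ := hmem
    have hc : Commute τ σ := hi ▸ (Commute.refl σ).zpow_left i
    rw [hc.eq, mul_inv_cancel_right] at hrel
    have : σ ^ 2 = 1 := by rw [pow_two]; nth_rw 2 [hrel]; exact mul_inv_cancel σ
    have := Nat.le_of_dvd two_pos (orderOf_dvd_of_pow_eq_one this)
    rw [hσo, hmq] at this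
    omega
  -- the elements of `P`
  have helt : ∀ g ∈ (P : Subgroup G), ∃ i : ℤ, g = σ ^ i ∨ g = σ ^ i * τ := by
    intro g hg
    rw [← hgen] at hg
    induction hg using Subgroup.closure_induction with
    | mem x hx =>
      simp only [Set.mem_insert_iff, Set.mem_singleton_iff] at hx
      rcases hx with rfl | rfl
      · exact ⟨1, Or.inl (zpow_one _).symm⟩
      · exact ⟨0, Or.inr (by simp)⟩
    | one => exact ⟨0, Or.inl (zpow_zero σ).symm⟩
    | mul x y _ _ ihx ihy =>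
      obtain ⟨i, hi⟩ := ihx
      obtain ⟨j, hj⟩ := ihy
      have hsw : τ * σ ^ j = σ ^ (-j) * τ := by
        rw [← conj_zpow_neg hrel j]; group
      rcases hi with rfl | rfl <;> rcases hj with rfl | rfl
      · exact ⟨i + j, Or.inl (zpow_add σ i j).symm⟩
      · exact ⟨i + j, Or.inr (by rw [zpow_add]; group)⟩
      · exact ⟨i - j, Or.inr (by rw [mul_assoc, hsw, ← mul_assoc, ← zpow_add, sub_eq_add_neg])⟩
      · refine ⟨i - j, Or.inl ?_⟩
        rw [show σ ^ i * τ * (σ ^ j * τ) = σ ^ i * (τ * σ ^ j) * τ by group, hsw,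
          show σ ^ i * (σ ^ (-j) * τ) * τ = σ ^ i * σ ^ (-j) * (τ * τ) by group, hττ, mul_one,
          ← zpow_add, sub_eq_add_neg]
    | inv x _ ih =>
      obtain ⟨i, hi | hi⟩ := ih
      · exact ⟨-i, Or.inl (by rw [hi, zpow_neg])⟩
      · refine ⟨i, Or.inr ?_⟩
        rw [hi, mul_inv_rev, hτinv, ← zpow_neg]
        have h2 := conj_zpow_neg hrel (-i)
        rw [neg_neg] at h2
        rw [← h2]
        group
  have hzC : ∀ g ∈ (P : Subgroup G), g ∈ C := by
    intro g hg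
    rw [hC, Subgroup.mem_centralizer_singleton_iff]
    obtain ⟨i, rfl | rfl⟩ := helt g hg
    · exact ((Commute.refl σ).pow_right q).zpow_left i
    · have h1 : τ * z = z * τ := by
        have := conj_zpow_neg hrel q
        rw [zpow_natCast, zpow_neg, zpow_natCast, ← hz, inv_eq_of_mul_eq_one_right hzz] at this
        rw [← mul_inv_eq_iff_eq_mul.1 this]
      exact (Commute.mul_left (((Commute.refl σ).pow_right q).zpow_left i) h1)
  let σP : (P : Subgroup G) := ⟨σ, hσ⟩
  let τP : (P : Subgroup G) := ⟨τ, hτ⟩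
  set H : Subgroup (P : Subgroup G) := Subgroup.zpowers σP with hH
  have hmemH : ∀ w : (P : Subgroup G), w ∈ H ↔ ∃ i : ℤ, (w : G) = σ ^ i := fun w => by
    rw [hH, Subgroup.mem_zpowers_iff]
    exact ⟨fun ⟨i, hi⟩ => ⟨i, by rw [← hi]; simp [σP]⟩, fun ⟨i, hi⟩ =>
      ⟨i, Subtype.ext (by simp [σP, hi])⟩⟩
  have hnotH : ∀ w : (P : Subgroup G), w ∉ H → ∃ i : ℤ, (w : G) = σ ^ i * τ := fun w hw => by
    obtain ⟨i, hi | hi⟩ := helt w w.2
    · exact absurd ((hmemH w).2 ⟨i, hi⟩) hw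
    · exact ⟨i, hi⟩
  have hτH : τP ∉ H := fun hmem => by
    obtain ⟨i, hi⟩ := (hmemH _).1 hmem
    exact hτσ ⟨i, hi.symm⟩
  have hHidx : H.index = 2 := by
    refine Subgroup.index_eq_two_iff.2 ⟨τP, fun b => ?_⟩
    obtain ⟨i, hi | hi⟩ := helt b b.2
    · refine Or.inr ⟨(hmemH b).2 ⟨i, hi⟩, fun hm' => hτH ?_⟩
      have := mul_mem (inv_mem ((hmemH b).2 ⟨i, hi⟩)) hm'
      rwa [inv_mul_cancel_left] at this
    · refine Or.inl ⟨(hmemH _).2 ⟨i, ?_⟩, fun hb => hτH ?_⟩
      · rw [Subgroup.coe_mul, hi, mul_assoc, hττ, mul_one]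
      · obtain ⟨j, hj⟩ := (hmemH b).1 hb
        refine (hmemH _).2 ⟨-i + j, ?_⟩
        rw [zpow_add, ← hj, hi, zpow_neg, inv_mul_cancel_left]
  -- the normal complement of the centralizer
  have hPC : (P : Subgroup G) ≤ C := hzC
  let S : Sylow 2 C := P.subtype hPC
  have hSm : ∀ c : C, c ∈ (S : Subgroup C) ↔ (c : G) ∈ (P : Subgroup G) := fun c => Iff.rfl
  have hPcard : Nat.card (P : Subgroup G) = 2 * m := by
    rw [← H.card_mul_index, hHidx, hH, Nat.card_zpowers, Subgroup.orderOf_mk, hσo, mul_comm]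
  haveI : NeZero m := ⟨by omega⟩
  obtain ⟨eD⟩ := CfsgLib.TwoGroups.nonempty_mulEquiv_dihedralGroup (H := (P : Subgroup G)) (n := m)
    (a := σP) (b := τP) (by rw [Subgroup.orderOf_mk, hσo]) (Subtype.ext hττ) hτH (Subtype.ext hrel)
    hPcard
  obtain ⟨mm, fD, hmm, -, hfD, hSD⟩ := CfsgLib.TwoGroups.Dihedral.exists_model (by omega) eD
  obtain ⟨N, hN, hNS⟩ := (CfsgLib.Transfer.exists_complement_iff S).2
    (CfsgLib.TwoGroups.Dihedral.centralizer_complement hfD hSD hmm hzo)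
  have hNodd : ¬ 2 ∣ Nat.card N := by
    have h1 := hNS.card_mul
    rw [← (S : Subgroup C).card_mul_index, mul_comm] at h1
    rw [Nat.eq_of_mul_eq_mul_left Nat.card_pos h1]
    exact S.not_dvd_index
  let j : (P : Subgroup G) →* C ⧸ N := (QuotientGroup.mk' N).comp (Subgroup.inclusion hPC)
  have hjb : Function.Bijective j := by
    have hinj : Function.Injective j := by
      refine (injective_iff_map_eq_one _).2 fun w hw => ?_
      have hmem : Subgroup.inclusion hPC w ∈ N := (QuotientGroup.eq_one_iff _).1 hw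
      have hbot : Subgroup.inclusion hPC w ∈ N ⊓ (S : Subgroup C) := ⟨hmem, w.2⟩
      rw [hNS.disjoint.eq_bot, Subgroup.mem_bot] at hbot
      exact Subtype.ext (congrArg Subtype.val hbot :)
    refine (Nat.bijective_iff_injective_and_card j).2 ⟨hinj, ?_⟩
    have h1 := hNS.card_mul
    rw [← N.card_mul_index] at h1
    rw [← Subgroup.index_eq_card, ← Nat.eq_of_mul_eq_mul_left Nat.card_pos h1]
    exact Nat.card_congr (Subgroup.subgroupOfEquivOfLe hPC).symm.toEquiv
  let π : C →* (P : Subgroup G) := (MulEquiv.ofBijective j hjb).symm.toMonoidHom.comp (QuotientGroup.mk' N)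
  have hπP : ∀ w : (P : Subgroup G), π (Subgroup.inclusion hPC w) = w := fun w =>
    (MulEquiv.ofBijective j hjb).symm_apply_apply w
  have hπN : ∀ c : C, π c = 1 ↔ c ∈ N := fun c => by
    show (MulEquiv.ofBijective j hjb).symm _ = 1 ↔ _
    rw [map_eq_one_iff _ (MulEquiv.ofBijective j hjb).symm.injective]
    exact QuotientGroup.eq_one_iff c
  have hπsurj : Function.Surjective π := fun w => ⟨_, hπP w⟩
  have hπodd : ∀ c : C, ¬ 2 ∣ orderOf c → π c = 1 := fun c hc => by
    rw [← orderOf_eq_one_iff]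
    obtain ⟨k, hk⟩ := IsPGroup.iff_orderOf.1 P.2 (π c)
    have h2 : orderOf (π c) ∣ orderOf c := orderOf_map_dvd π c
    rw [hk] at h2 ⊢
    rcases k with _ | k
    · rfl
    · exact absurd ((dvd_pow_self 2 k.succ_ne_zero).trans h2) hc
  set K' : Subgroup C := H.comap π with hK'
  have hK'idx : K'.index = 2 := by rw [hK', Subgroup.index_comap_of_surjective _ hπsurj, hHidx]
  haveI hK'n : K'.Normal := Subgroup.normal_of_index_eq_two hK'idx
  set K : Subgroup G := K'.map C.subtype with hK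
  have hKC : K ≤ C := Subgroup.map_subtype_le K'
  have hKm : ∀ c : C, (c : G) ∈ K ↔ π c ∈ H := fun c =>
    Subgroup.mem_map_iff_mem C.subtype_injective
  have hKcard : Nat.card K = Nat.card K' := Subgroup.card_map_of_injective C.subtype_injective
  -- the linear character
  set ζ : ℂ := Complex.exp (2 * Real.pi * Complex.I / m) with hζ
  have hζp : IsPrimitiveRoot ζ m := Complex.isPrimitiveRoot_exp m (by omega)
  set ζu : ℂˣ := (hζp.isUnit (by omega)).unit with hζu
  have hζo : orderOf ζu = m := by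
    rw [← orderOf_units, hζu, IsUnit.unit_spec]; exact hζp.eq_orderOf.symm
  let g : H := ⟨σP, Subgroup.mem_zpowers σP⟩
  have hgen' : ∀ x : H, x ∈ Subgroup.zpowers g := fun x => by
    obtain ⟨i, hi⟩ := Subgroup.mem_zpowers_iff.1 x.2
    exact Subgroup.mem_zpowers_iff.2 ⟨i, Subtype.ext (by simpa using hi)⟩
  have hgo : orderOf g = m := by rw [Subgroup.orderOf_mk, Subgroup.orderOf_mk, hσo]
  let χ₀ : H →* ℂˣ := monoidHomOfForallMemZpowers hgen' (by rw [hζo, hgo] : orderOf ζu ∣ orderOf g)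
  have hχ₀g : χ₀ g = ζu := monoidHomOfForallMemZpowers_apply_gen hgen' _
  have hχ₀inj : ∀ x : H, χ₀ x = 1 → x = 1 := fun x hx => by
    obtain ⟨i, rfl⟩ := Subgroup.mem_zpowers_iff.1 (hgen' x)
    rw [map_zpow, hχ₀g] at hx
    rw [← orderOf_dvd_iff_zpow_eq_one, hζo] at hx
    rwa [← orderOf_dvd_iff_zpow_eq_one, hgo]
  let l : K →* ℂˣ :=
    { toFun := fun k => χ₀ ⟨π ⟨(k : G), hKC k.2⟩, (hKm _).1 k.2⟩
      map_one' := by
        rw [← map_one χ₀]; exact congrArg χ₀ (Subtype.ext (map_one π))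
      map_mul' := fun a b => by
        rw [← map_mul]; exact congrArg χ₀ (Subtype.ext (map_mul π ⟨(a : G), hKC a.2⟩ ⟨(b : G), hKC b.2⟩)) }
  have hl1 : ∀ k : K, l k = 1 ↔ π ⟨(k : G), hKC k.2⟩ = 1 := fun k =>
    ⟨fun e => congrArg Subtype.val (hχ₀inj _ e), fun e =>
      (congrArg χ₀ (Subtype.ext e : (⟨π ⟨(k : G), hKC k.2⟩, (hKm _).1 k.2⟩ : H) = 1)).trans (map_one χ₀)⟩
  -- powers equal to `z`
  have hzH : (⟨z, hzC z (Subgroup.pow_mem _ hσ q)⟩ : C) = Subgroup.inclusion hPC (σP ^ q) :=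
    Subtype.ext (by simp [σP, hz])
  have hpow : ∀ k : K, l k ≠ 1 → z ∈ Subgroup.zpowers (k : G) := by
    intro k hk
    set c : C := ⟨(k : G), hKC k.2⟩
    have hne : π c ≠ 1 := fun e => hk ((hl1 k).2 e)
    obtain ⟨a, ha⟩ := IsPGroup.iff_orderOf.1 P.2 (π c)
    obtain ⟨a, rfl⟩ : ∃ b, a = b + 1 := ⟨a - 1, by
      rcases a with _ | a
      · exact absurd (orderOf_eq_one_iff.1 (ha.trans (pow_zero 2))) hne
      · omega⟩
    have hcH : π c ∈ Subgroup.zpowers σP := (hKm c).1 k.2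
    have hj : (π c) ^ (2 ^ a) = σP ^ q := by
      have h2 : orderOf ((π c) ^ (2 ^ a)) = 2 := by
        rw [orderOf_pow_of_dvd (pow_ne_zero _ two_ne_zero) (ha ▸ pow_dvd_pow 2 (Nat.le_succ a)), ha,
          pow_succ, Nat.mul_div_cancel_left _ (pow_pos two_pos a)]
      refine involution_eq (k := σP) (Subgroup.pow_mem _ hcH _) (Subgroup.npow_mem_zpowers σP q)
        (by rw [← pow_two]; exact orderOf_dvd_iff_pow_eq_one.1 h2.dvd) (Subtype.ext (by simpa [σP] using hzz))
        (fun e => by rw [e, orderOf_one] at h2; norm_num at h2)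
        (fun e => hz1 (by simpa [σP] using congrArg Subtype.val e))
    set zC : C := ⟨z, hzC z (Subgroup.pow_mem _ hσ q)⟩ with hzCdef
    have hv : zC⁻¹ * c ^ (2 ^ a) ∈ N := by
      rw [← hπN, map_mul, map_inv, map_pow, hj, hzH, hπP, inv_mul_cancel]
    have hodd : Odd (Nat.card N) := Nat.odd_iff.2 (Nat.two_dvd_ne_zero.1 hNodd)
    have hcomm : Commute zC (zC⁻¹ * c ^ (2 ^ a)) := by
      refine Commute.mul_right ((Commute.refl zC).inv_right) (Commute.pow_right ?_ _)
      exact Subtype.ext (Subgroup.mem_centralizer_singleton_iff.1 c.2).symm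
    have hfin : c ^ (2 ^ a * Nat.card N) = zC := by
      rw [pow_mul, ← mul_inv_cancel_left zC (c ^ (2 ^ a)), hcomm.mul_pow]
      have e1 : zC ^ Nat.card N = zC := by
        obtain ⟨b, hb⟩ := hodd
        rw [hb, pow_succ, pow_mul, pow_two,
          show zC * zC = 1 from Subtype.ext hzz, one_pow, one_mul]
      have e2 : (zC⁻¹ * c ^ (2 ^ a)) ^ Nat.card N = 1 :=
        orderOf_dvd_iff_pow_eq_one.1 (Subgroup.orderOf_dvd_natCard N hv)
      rw [e1, e2, mul_one]
    exact ⟨((2 ^ a * Nat.card N : ℕ) : ℤ), by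
      show (k : G) ^ ((2 ^ a * Nat.card N : ℕ) : ℤ) = z
      rw [zpow_natCast]
      exact (congrArg Subtype.val hfin :)⟩
  have hzK : z ∈ K := by
    have := (hKm ⟨z, hzC z (Subgroup.pow_mem _ hσ q)⟩).2
      (by rw [hzH, hπP]; exact Subgroup.npow_mem_zpowers σP q)
    exact this
  have hzinvol : ∀ a : G, IsConj z a → a * a = 1 ∧ a ≠ 1 := fun a ha => by
    obtain ⟨x, rfl⟩ := isConj_iff.1 ha
    exact ⟨by rw [show x * z * x⁻¹ * (x * z * x⁻¹) = x * (z * z) * x⁻¹ by group, hzz]; group,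
      fun e => hz1 (by simpa using e)⟩
  have hD : Data z K l := by
    refine ⟨hzK, fun hh => ?_, hKC, ?_, ?_, ?_, ?_, ?_, ?_⟩
    · show ((χ₀ _ : ℂˣ) : ℂ) = -1
      rw [show (⟨π ⟨z, hKC hh⟩, (hKm _).1 hh⟩ : H) = g ^ q from Subtype.ext (by
        show π ⟨z, hKC hh⟩ = ((g ^ q : H) : (P : Subgroup G))
        rw [show (⟨z, hKC hh⟩ : C) = Subgroup.inclusion hPC (σP ^ q) from hzH, hπP,
          Subgroup.coe_pow]), map_pow, hχ₀g, Units.val_pow_eq_pow_val, hζu, IsUnit.unit_spec]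
      exact (hζp.pow (by omega) (by rw [hmq, mul_comm] : m = q * 2)).eq_neg_one_of_two_right
    · show Nat.card C = 2 * Nat.card K
      rw [hKcard, ← K'.card_mul_index, hK'idx, mul_comm]
    · intro k x hx hk hk'
      have h1 := hpow k hk
      have h2 := hpow ⟨_, hx⟩ hk'
      have h3 : x * z * x⁻¹ ∈ Subgroup.zpowers (x * (k : G) * x⁻¹) := by
        obtain ⟨i, hi⟩ := h1
        exact ⟨i, by show (x * (k : G) * x⁻¹) ^ i = _; rw [conj_zpow]; exact congrArg (fun w => x * w * x⁻¹) hi⟩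
      obtain ⟨e1, e2⟩ := hzinvol (x * z * x⁻¹) (isConj_iff.2 ⟨x, rfl⟩)
      have := involution_eq h3 h2 e1 hzz e2 hz1
      rw [Subgroup.mem_centralizer_singleton_iff]
      calc x * z = x * z * x⁻¹ * x := by group
        _ = z * x := by rw [this]
    · intro a haC haK k
      have hm' : a * (k : G) * a⁻¹ ∈ K :=
        (hKm ⟨_, mul_mem (mul_mem haC (hKC k.2)) (inv_mem haC)⟩).2
          (hK'n.conj_mem ⟨(k : G), hKC k.2⟩ ((hKm _).1 k.2) ⟨a, haC⟩)
      refine ⟨hm', ?_⟩
      show χ₀ _ = (χ₀ _)⁻¹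
      rw [← map_inv]
      refine congrArg χ₀ (Subtype.ext ?_)
      show π (⟨a, haC⟩ * ⟨(k : G), hKC k.2⟩ * (⟨a, haC⟩ : C)⁻¹) = (π ⟨(k : G), hKC k.2⟩)⁻¹
      rw [map_mul, map_mul, map_inv]
      obtain ⟨i, hi⟩ := hnotH _ (fun hh => haK ((hKm ⟨a, haC⟩).2 hh))
      obtain ⟨s, hs⟩ := (hmemH _).1 ((hKm ⟨(k : G), hKC k.2⟩).1 k.2)
      refine Subtype.ext ?_
      rw [Subgroup.coe_mul, Subgroup.coe_mul, Subgroup.coe_inv, Subgroup.coe_inv, hi, hs,
        show σ ^ i * τ * σ ^ s * (σ ^ i * τ)⁻¹ = σ ^ i * (τ * σ ^ s * τ⁻¹) * (σ ^ i)⁻¹ by group,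
        conj_zpow_neg hrel, ← zpow_neg σ i, ← zpow_add, ← zpow_add, ← zpow_neg]
      congr 1
      ring
    · intro a b haC haK hbC hbK
      refine (hKm ⟨a * b, mul_mem haC hbC⟩).2 ?_
      rw [show (⟨a * b, mul_mem haC hbC⟩ : C) = ⟨a, haC⟩ * ⟨b, hbC⟩ from rfl, map_mul,
        Subgroup.mul_mem_iff_of_index_two hHidx]
      exact iff_of_false (fun hh => haK ((hKm _).2 hh)) (fun hh => hbK ((hKm _).2 hh))
    · intro a haK ha
      obtain ⟨e1, e2⟩ := hzinvol a ha
      have hl : l ⟨a, haK⟩ ≠ 1 := fun e => by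
        have hN' := (hπN _).1 ((hl1 ⟨a, haK⟩).1 e)
        have h2 : orderOf (⟨a, hKC haK⟩ : C) = 2 := by
          rw [Subgroup.orderOf_mk]
          exact orderOf_eq_prime (by rw [pow_two]; exact e1) e2
        exact hNodd (h2 ▸ Subgroup.orderOf_dvd_natCard N hN')
      exact (involution_eq (hpow ⟨a, haK⟩ hl) (Subgroup.mem_zpowers a) hzz e1 hz1 e2).symm
    · refine ⟨⟨σ, (hKm ⟨σ, hPC hσ⟩).2 (by
        rw [show (⟨σ, hPC hσ⟩ : C) = Subgroup.inclusion hPC σP from rfl, hπP]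
        exact Subgroup.mem_zpowers σP)⟩, ?_⟩
      show χ₀ _ * χ₀ _ ≠ 1
      rw [show (⟨π ⟨σ, hPC hσ⟩, _⟩ : H) = g from Subtype.ext (hπP σP), hχ₀g, ← pow_two]
      intro e
      have := Nat.le_of_dvd two_pos (orderOf_dvd_of_pow_eq_one e)
      omega
  -- the reflections
  set τC : C := ⟨τ, hPC hτ⟩ with hτC
  set υC : C := ⟨σ * τ, hPC (mul_mem hσ hτ)⟩ with hυC
  have hπτ : π τC = τP := hπP τP
  have hπυ : π υC = σP * τP := hπP (σP * τP)
  have hrefl : refl z K = ((ConjClasses.mk τC).carrier.toFinset ∪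
      (ConjClasses.mk υC).carrier.toFinset).map ⟨Subtype.val, Subtype.val_injective⟩ := by
    ext a
    simp only [refl, Finset.mem_filter, Finset.mem_univ, true_and, Finset.mem_map, Finset.mem_union,
      Set.mem_toFinset, ConjClasses.mem_carrier_iff_mk_eq, ConjClasses.mk_eq_mk_iff_isConj,
      Function.Embedding.coeFn_mk]
    constructor
    · rintro ⟨haC, haK, ha⟩
      obtain ⟨e1, e2⟩ := hzinvol a ha
      set aC : C := ⟨a, haC⟩ with haCdef
      obtain ⟨Q, hQ⟩ := (IsPGroup.of_card (n := 1) (by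
        rw [Nat.card_zpowers, pow_one]
        exact orderOf_eq_prime (by rw [pow_two]; exact Subtype.ext e1) (fun e => e2 (congrArg Subtype.val e))) :
        IsPGroup 2 (Subgroup.zpowers aC)).exists_le_sylow
      obtain ⟨c, hc⟩ := MulAction.exists_smul_eq C Q S
      have hcP : c * aC * c⁻¹ ∈ (S : Subgroup C) := by
        rw [← hc, Sylow.coe_subgroup_smul]
        exact ⟨aC, hQ (Subgroup.mem_zpowers aC), by simp⟩
      set w : (P : Subgroup G) := ⟨((c * aC * c⁻¹ : C) : G), (hSm _).1 hcP⟩ with hw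
      have hwinc : Subgroup.inclusion hPC w = c * aC * c⁻¹ := Subtype.ext rfl
      have hwH : w ∉ H := fun hh => haK <| by
        have h1 : (c * aC * c⁻¹ : C) ∈ K' := by
          rw [← hwinc]; show π _ ∈ H; rw [hπP]; exact hh
        have h2 := hK'n.conj_mem _ h1 c⁻¹
        rw [show c⁻¹ * (c * aC * c⁻¹) * c⁻¹⁻¹ = aC by group] at h2
        exact (hKm aC).2 h2
      obtain ⟨i, hi⟩ := hnotH w hwH
      have hshift : ∀ j : ℤ, σ ^ j * (σ ^ i * τ) * (σ ^ j)⁻¹ = σ ^ (i + 2 * j) * τ := fun j => by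
        have h1 := conj_zpow_neg hrel (-j)
        rw [neg_neg, zpow_neg] at h1
        calc σ ^ j * (σ ^ i * τ) * (σ ^ j)⁻¹ = σ ^ j * σ ^ i * (τ * (σ ^ j)⁻¹ * τ⁻¹) * τ := by group
          _ = σ ^ j * σ ^ i * σ ^ j * τ := by rw [h1]
          _ = σ ^ (i + 2 * j) * τ := by rw [← zpow_add, ← zpow_add]; congr 2; ring
      refine ⟨aC, ?_, rfl⟩
      rcases Int.even_or_odd' i with ⟨r, hr | hr⟩
      · left
        refine isConj_iff.2 ⟨Subgroup.inclusion hPC (σP ^ (-r)) * c, Subtype.ext ?_⟩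
        have h1 := hshift (-r)
        rw [show i + 2 * -r = 0 by omega, zpow_zero, one_mul, ← hi, hw] at h1
        simp only [Subgroup.coe_mul, Subgroup.coe_inv] at h1 ⊢
        show _ = τ
        rw [← h1, show (((Subgroup.inclusion hPC (σP ^ (-r))) : C) : G) = σ ^ (-r) by simp [σP]]
        group
      · right
        refine isConj_iff.2 ⟨Subgroup.inclusion hPC (σP ^ (-r)) * c, Subtype.ext ?_⟩
        have h1 := hshift (-r)
        rw [show i + 2 * -r = 1 by omega, zpow_one, ← hi, hw] at h1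
        simp only [Subgroup.coe_mul, Subgroup.coe_inv] at h1 ⊢
        show _ = σ * τ
        rw [← h1, show (((Subgroup.inclusion hPC (σP ^ (-r))) : C) : G) = σ ^ (-r) by simp [σP]]
        group
    · rintro ⟨aC, haconj, rfl⟩
      have hv : ∃ v : C, IsConj aC v ∧ π v ∉ H ∧ IsConj z (v : G) := by
        rcases haconj with e | e
        · exact ⟨τC, e, by rw [hπτ]; exact hτH, hconj.1⟩
        · exact ⟨υC, e, by
            rw [hπυ]; exact fun hh => hτH (by
              simpa using (mul_mem (inv_mem (Subgroup.mem_zpowers σP)) hh : σP⁻¹ * (σP * τP) ∈ H)),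
            hconj.2⟩
      obtain ⟨v, hv1, hv2, hv3⟩ := hv
      obtain ⟨c, hc⟩ := isConj_iff.1 hv1
      refine ⟨aC.2, fun hh => hv2 ?_, hv3.trans ?_⟩
      · have := hK'n.conj_mem aC ((hKm aC).1 hh) c
        rwa [hc] at this
      · exact (isConj_iff.2 ⟨(c : G), by rw [← hc]; rfl⟩ : IsConj (aC : G) (v : G)).symm
  have hdisj : Disjoint (ConjClasses.mk τC).carrier.toFinset (ConjClasses.mk υC).carrier.toFinset := by
    rw [Finset.disjoint_left]
    intro a h1 h2
    simp only [Set.mem_toFinset, ConjClasses.mem_carrier_iff_mk_eq] at h1 h2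
    obtain ⟨c, hc⟩ := isConj_iff.1 (ConjClasses.mk_eq_mk_iff_isConj.1 (h1.symm.trans h2))
    have e : (π c : G) * τ * (π c : G)⁻¹ = σ * τ := by
      have := congrArg π hc
      rw [map_mul, map_mul, map_inv, hπτ, hπυ] at this
      exact congrArg Subtype.val this
    have hodd : ∀ i : ℤ, σ ^ (2 * i) * τ ≠ σ * τ := fun i ei => by
      have h0 : σ ^ (2 * i - 1) = 1 := by rw [zpow_sub, zpow_one, mul_inv_eq_one]; exact mul_right_cancel ei
      have h1 := orderOf_dvd_iff_zpow_eq_one.2 h0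
      rw [hσo, hmq] at h1
      push_cast at h1
      have := (dvd_mul_right (2 : ℤ) (q : ℤ)).trans h1
      omega
    obtain ⟨i, hi | hi⟩ := helt _ (π c).2
    · refine hodd i ?_
      rw [← e, hi]
      have h1 := conj_zpow_neg hrel (-i)
      rw [neg_neg, zpow_neg] at h1
      calc σ ^ (2 * i) * τ = σ ^ i * σ ^ i * τ := by rw [← zpow_add]; congr 2; ring
        _ = σ ^ i * (τ * (σ ^ i)⁻¹ * τ⁻¹) * τ := by rw [h1]
        _ = σ ^ i * τ * (σ ^ i)⁻¹ := by group
    · refine hodd i ?_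
      rw [← e, hi]
      have h1 := conj_zpow_neg hrel (-i)
      rw [neg_neg, zpow_neg] at h1
      calc σ ^ (2 * i) * τ = σ ^ i * σ ^ i * τ := by rw [← zpow_add]; congr 2; ring
        _ = σ ^ i * (τ * (σ ^ i)⁻¹ * τ⁻¹) * τ := by rw [h1]
        _ = σ ^ i * τ * τ * (σ ^ i * τ)⁻¹ := by group
  have hclass : ∀ (v : G) (hv : v ∈ C),
      ((ConjClasses.mk (⟨v, hv⟩ : C)).carrier.toFinset.card : ℂ) *
        (Nat.card (Subgroup.centralizer ({z, v} : Set G)) : ℂ) = (Nat.card C : ℂ) := by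
    intro v hv
    have e1 : Nat.card (Subgroup.centralizer ({z, v} : Set G)) =
        Nat.card (Subgroup.centralizer ({(⟨v, hv⟩ : C)} : Set C)) :=
      Nat.card_congr
        { toFun := fun x => ⟨⟨(x : G), Subgroup.mem_centralizer_singleton_iff.2
            (Subgroup.mem_centralizer_iff.1 x.2 z (Or.inl rfl)).symm⟩,
            Subgroup.mem_centralizer_singleton_iff.2 (Subtype.ext
              (Subgroup.mem_centralizer_iff.1 x.2 v (Or.inr rfl)).symm)⟩
          invFun := fun x => ⟨((x : C) : G), Subgroup.mem_centralizer_iff.2 (by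
            rintro w (rfl | rfl)
            · exact (Subgroup.mem_centralizer_singleton_iff.1 (x : C).2).symm
            · exact (congrArg Subtype.val (Subgroup.mem_centralizer_singleton_iff.1 x.2)).symm)⟩
          left_inv := fun _ => rfl
          right_inv := fun _ => rfl }
    rw [e1, ← Nat.cast_mul, Set.toFinset_card, ← Nat.card_eq_fintype_card,
      Char.card_carrier_eq_index, mul_comm, Subgroup.card_mul_index]
  have hT : ((refl z K).card : ℂ) = (Nat.card C : ℂ) *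
      (1 / (Nat.card (Subgroup.centralizer ({z, τ} : Set G)) : ℂ) +
        1 / (Nat.card (Subgroup.centralizer ({z, σ * τ} : Set G)) : ℂ)) := by
    rw [hrefl, Finset.card_map, Finset.card_union_of_disjoint hdisj, Nat.cast_add, mul_add]
    congr 1 <;> rw [mul_one_div, eq_div_iff (Nat.cast_ne_zero.2 Nat.card_pos.ne')] <;>
      exact hclass _ _
  -- the values on the sections
  have hsec : ∀ k : K, l k ≠ 1 → (χ : G → ℂ) (k : G) = δ := by
    intro k hk
    set c : C := ⟨(k : G), hKC k.2⟩ with hcdef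
    obtain ⟨u, hu⟩ := exists_pPart Nat.prime_two c
    obtain ⟨v, hv, hcomm, ⟨a, ha⟩, hvo⟩ := hu
    have hπv := hπodd v hvo
    have hπu : π u = π c := by rw [← hv, map_mul, hπv, mul_one]
    obtain ⟨Q, hQ⟩ := (IsPGroup.of_card (n := a) (by rw [Nat.card_zpowers, ha]) :
      IsPGroup 2 (Subgroup.zpowers u)).exists_le_sylow
    obtain ⟨d, hd⟩ := MulAction.exists_smul_eq C Q S
    have hdP : d * u * d⁻¹ ∈ (S : Subgroup C) := by
      rw [← hd, Sylow.coe_subgroup_smul]
      exact ⟨u, hQ (Subgroup.mem_zpowers u), by simp⟩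
    set w : (P : Subgroup G) := ⟨((d * u * d⁻¹ : C) : G), (hSm _).1 hdP⟩ with hw
    have hwπ : π (d * u * d⁻¹) = w := by
      rw [show (d * u * d⁻¹ : C) = Subgroup.inclusion hPC w from Subtype.ext rfl, hπP]
    have hwH : w ∈ H := by
      rw [← hwπ]
      exact hK'n.conj_mem u (by show π u ∈ H; rw [hπu]; exact (hKm c).1 k.2) d
    have hwK : (w : G) ∈ K := (hKm (d * u * d⁻¹)).2 (hwπ.symm ▸ hwH)
    have hlw : l ⟨(w : G), hwK⟩ ≠ 1 := fun e => by
      have e1 := (hl1 _).1 e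
      have e2 : π (d * u * d⁻¹) = 1 := e1
      rw [map_mul, map_mul, map_inv, hπu] at e2
      exact hk ((hl1 k).2 (conj_eq_one_iff.1 e2))
    obtain ⟨i, hi⟩ := (hmemH w).1 hwH
    have hm0 : (m : ℤ) ≠ 0 := by omega
    obtain ⟨i', hi'⟩ : ∃ i' : ℕ, (i' : ℤ) = i % (m : ℤ) :=
      ⟨(i % (m : ℤ)).toNat, Int.toNat_of_nonneg (Int.emod_nonneg _ hm0)⟩
    have hwpow : (w : G) = σ ^ i' := by
      rw [hi, ← zpow_natCast, hi', ← hσo]
      exact (zpow_mod_orderOf σ i).symm
    have hwval : (χ : G → ℂ) (w : G) = δ := by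
      rw [hwpow]
      refine hval i' (Nat.pos_of_ne_zero fun e0 => hlw ((hl1 _).2 ?_)) ?_
      · rw [e0, pow_zero] at hwpow
        rw [show (⟨(w : G), hKC hwK⟩ : C) = 1 from Subtype.ext hwpow, map_one]
      · have := Int.emod_lt_of_pos i (show (0 : ℤ) < m by omega)
        omega
    -- conjugate into the centralizer of `w`
    set v' : C := d * v * d⁻¹ with hv'
    have hwv : (χ : G → ℂ) (k : G) = (χ : G → ℂ) ((w : G) * (v' : G)) := by
      rw [show (w : G) * (v' : G) = (d : G) * (k : G) * (d : G)⁻¹ from ?_,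
        IsIrr.isClassFunction χ.2]
      have := congrArg Subtype.val (show (d * u * d⁻¹) * v' = d * c * d⁻¹ by rw [hv', ← hv]; group)
      simpa [hw, hcdef] using this
    have hzw : z ∈ Subgroup.zpowers (w : G) := hpow ⟨(w : G), hwK⟩ hlw
    have hle : Subgroup.centralizer ({(w : G)} : Set G) ≤ C := fun x hx => by
      rw [Subgroup.mem_centralizer_singleton_iff] at hx
      rw [hC, Subgroup.mem_centralizer_singleton_iff]
      obtain ⟨j, hj⟩ := hzw
      rw [← hj]
      exact (show Commute x (w : G) from hx).zpow_right j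
    set Nw : Subgroup (Subgroup.centralizer ({(w : G)} : Set G)) :=
      (N.map C.subtype).subgroupOf _ with hNw
    haveI : Nw.Normal := by
      refine ⟨fun x hx y => ?_⟩
      rw [hNw, Subgroup.mem_subgroupOf] at hx ⊢
      obtain ⟨x', hx', hxx⟩ := hx
      exact ⟨⟨(y : G), hle y.2⟩ * x' * ⟨(y : G), hle y.2⟩⁻¹, hN.conj_mem x' hx' _, by
        simp only [map_mul, map_inv, Subgroup.coe_subtype, Subgroup.coe_mul, Subgroup.coe_inv] at hxx ⊢
        rw [hxx]⟩
    have hNw2 : ¬ 2 ∣ Nat.card Nw := fun hd2 => hNodd (hd2.trans (by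
      have h1 : Nat.card Nw ∣ Nat.card (N.map C.subtype) :=
        Subgroup.card_comap_dvd_of_injective _ _ (Subgroup.subtype_injective _)
      rwa [Subgroup.card_map_of_injective C.subtype_injective] at h1))
    have hv'c : (v' : G) ∈ Subgroup.centralizer ({(w : G)} : Set G) := by
      rw [Subgroup.mem_centralizer_singleton_iff]
      have : v' * (d * u * d⁻¹) = (d * u * d⁻¹) * v' := by
        rw [hv', show d * v * d⁻¹ * (d * u * d⁻¹) = d * (v * u) * d⁻¹ by group, ← hcomm.eq]; group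
      exact congrArg Subtype.val this
    rw [hwv, Blocks.apply_mul_eq_of_mem_principalBlock (x := (w : G)) hM ?_ hχ (N := Nw) hNw2
      (v := ⟨(v' : G), hv'c⟩) ?_, hwval]
    · obtain ⟨k', hk'⟩ := IsPGroup.iff_orderOf.1 P.2 w
      exact ⟨k', by rw [Subgroup.orderOf_coe, hk']⟩
    · rw [hNw, Subgroup.mem_subgroupOf]
      refine ⟨v', (hπN v').1 ?_, rfl⟩
      rw [hv', map_mul, map_mul, map_inv, hπv, mul_one, mul_inv_cancel]
  have hsum : ∑ k : K, base l k * conj ((χ : G → ℂ) (k : G)) = (δ : ℂ) * Nat.card K := by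
    rw [Finset.sum_congr rfl fun k _ => show base l k * conj ((χ : G → ℂ) (k : G)) =
      (δ : ℂ) - (δ : ℂ) * (l k : ℂ) from ?_, Finset.sum_sub_distrib, ← Finset.mul_sum]
    · obtain ⟨s, hs⟩ := hD.order
      rw [sum_hom_eq_zero l (s := s) (fun e => hs (by rw [e, one_mul])), mul_zero, sub_zero,
        Finset.sum_const, Finset.card_univ, ← Nat.card_eq_fintype_card, nsmul_eq_mul, mul_comm]
    · by_cases hk : l k = 1
      · rw [base, hk, Units.val_one, sub_self, zero_mul, mul_one, sub_self]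
      · rw [hsec k hk, base, map_intCast]; ring
  have hχz : (χ : G → ℂ) z = δ := hval q (by omega) (by omega)
  obtain ⟨hbad, hmain⟩ := formula hD hzo hχ1 hδ hχz hsum
  refine ⟨fun e => ?_, ?_⟩
  · obtain ⟨ψ, hψ1, hψz⟩ := hbad e
    obtain ⟨r, ρ, hρ, hρc⟩ := ψ.2
    rw [← hρc] at hψ1 hψz
    rw [Representation.char_one] at hψ1
    obtain ⟨ω, hω⟩ := CharIntegral.exists_scalar_of_norm_character_eq ρ z (by
      rw [hψz, norm_neg, ← hψ1, Complex.norm_natCast])
    have hω1 : ω = -1 := by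
      have h1 := hψz
      rw [Representation.character, hω, map_smul, LinearMap.trace_id, smul_eq_mul, hψ1] at h1
      linear_combination h1 / 2
    subst hω1
    have hinv : ∀ a : G, IsConj z a → ρ a = (-1 : ℂ) • LinearMap.id := fun a ha => by
      obtain ⟨x, rfl⟩ := isConj_iff.1 ha
      rw [map_mul, map_mul, hω, ← Module.End.one_eq_id, mul_smul_comm, mul_one, smul_mul_assoc,
        ← map_mul, mul_inv_cancel, map_one]
    have hσ1 : ρ σ = 1 := by
      rw [show σ = σ * τ * τ by rw [mul_assoc, hττ, mul_one], map_mul, hinv _ hconj.2,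
        hinv _ hconj.1, ← Module.End.one_eq_id, smul_mul_smul_comm, one_mul]
      norm_num
    rw [hz, Representation.character, map_pow, hσ1, one_pow, LinearMap.trace_one, hψ1] at hψz
    norm_num at hψz
  · rw [hmain, hT]
    ring

end CfsgLib.Blocks.DihedralFormula
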