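import Cfsg.Agent.Lib.Blocks.Sections
import Cfsg.Agent.Lib.Blocks.Union
import Cfsg.Agent.Lib.Char.Induced
import Cfsg.Agent.Lib.Char.Virtual

/-!
# Products of two involutions in a rotation subgroup

`K` has index two in the centralizer `C` of the involution `z` and carries a linear character `l`
inverted by `C` outside `K`, such that the elements of `K` off the kernel of `l` are fused only in
`C`. The generalized character induced from `1 - l` has norm three, and counting the pairs of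
conjugates of `z` with product off the kernel of `l` gives an order formula.
-/

set_option autoImplicit false

namespace CfsgLib.Blocks.DihedralFormula

open Cfsg CfsgLib CfsgLib.Char
open scoped Classical ComplexConjugate

variable {G : Type*} [Group G] [Fintype G]

/-- The data at the involution `z`. -/
structure Data (z : G) (K : Subgroup G) (l : K →* ℂˣ) : Prop where
  mem : z ∈ K
  apply_z : ∀ h : z ∈ K, (l ⟨z, h⟩ : ℂ) = -1
  le : K ≤ Subgroup.centralizer ({z} : Set G)
  card : Nat.card (Subgroup.centralizer ({z} : Set G)) = 2 * Nat.card K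
  ctrl : ∀ (k : K) (x : G) (h : x * k * x⁻¹ ∈ K), l k ≠ 1 → l ⟨_, h⟩ ≠ 1 →
    x ∈ Subgroup.centralizer ({z} : Set G)
  invert : ∀ a : G, a ∈ Subgroup.centralizer ({z} : Set G) → a ∉ K → ∀ k : K,
    ∃ h : a * k * a⁻¹ ∈ K, l ⟨_, h⟩ = (l k)⁻¹
  prod_mem : ∀ a b : G, a ∈ Subgroup.centralizer ({z} : Set G) → a ∉ K →
    b ∈ Subgroup.centralizer ({z} : Set G) → b ∉ K → a * b ∈ K
  unique : ∀ a ∈ K, IsConj z a → a = z
  order : ∃ s : K, l s * l s ≠ 1

variable {z : G} {K : Subgroup G} {l : K →* ℂˣ} (h : Data z K l)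

/-- The function `1 - l`. -/
noncomputable def base (l : K →* ℂˣ) : K → ℂ := fun k => 1 - (l k : ℂ)

/-- The exceptional generalized character. -/
noncomputable def Phi (l : K →* ℂˣ) : G → ℂ := indFun K (base l)

/-- The involutions of `C` outside `K` conjugate to `z`. -/
noncomputable def refl (z : G) (K : Subgroup G) : Finset G :=
  Finset.univ.filter fun a => a ∈ Subgroup.centralizer ({z} : Set G) ∧ a ∉ K ∧ IsConj z a

include h

omit [Fintype G] in
theorem inv_z (hz : orderOf z = 2) {a : G} (ha : IsConj z a) : a⁻¹ = a := by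
  obtain ⟨g, rfl⟩ := isConj_iff.1 ha
  have : z * z = 1 := by rw [← pow_two, ← hz, pow_orderOf_eq_one]
  exact inv_eq_of_mul_eq_one_right (by
    rw [show g * z * g⁻¹ * (g * z * g⁻¹) = g * (z * z) * g⁻¹ by group, this]; group)

theorem phi_apply {k : K} (hk : l k ≠ 1) :
    Phi l (k : G) = 2 - (l k : ℂ) - ((l k : ℂ))⁻¹ := by
  set C := Subgroup.centralizer ({z} : Set G)
  have hterm : ∀ x : G, extendByZero K (base l) (x⁻¹ * k * x) =
      (if x ∈ K then 1 - (l k : ℂ) else 0) +
        if x ∈ C ∧ x ∉ K then 1 - ((l k : ℂ))⁻¹ else 0 := by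
    intro x
    by_cases hxK : x ∈ K
    · have hm : x⁻¹ * k * x ∈ K := mul_mem (mul_mem (inv_mem hxK) k.2) hxK
      rw [extendByZero_of_mem _ _ hm, if_pos hxK, if_neg fun hh => hh.2 hxK, add_zero, base,
        show (⟨_, hm⟩ : K) = ⟨x, hxK⟩⁻¹ * k * ⟨x, hxK⟩ from rfl, map_mul, map_mul, map_inv,
        inv_mul_cancel_comm]
    rw [if_neg hxK, zero_add]
    by_cases hxC : x ∈ C
    · obtain ⟨hm, hl⟩ := h.invert x⁻¹ (inv_mem hxC) (fun hx => hxK (inv_mem_iff.1 hx)) k
      have e : x⁻¹ * (k : G) * x = x⁻¹ * k * x⁻¹⁻¹ := by rw [inv_inv]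
      rw [e, extendByZero_of_mem _ _ hm, if_pos ⟨hxC, hxK⟩, base, hl, Units.val_inv_eq_inv_val]
    · rw [if_neg fun hh => hxC hh.1]
      by_cases hm : x⁻¹ * k * x⁻¹⁻¹ ∈ K
      · have e : x⁻¹ * (k : G) * x = x⁻¹ * k * x⁻¹⁻¹ := by rw [inv_inv]
        rw [e, extendByZero_of_mem _ _ hm, base]
        by_contra hne
        refine hxC (inv_mem_iff.1 (h.ctrl k x⁻¹ hm hk fun e1 => hne ?_))
        rw [e1, Units.val_one, sub_self]
      · rw [inv_inv] at hm
        exact extendByZero_of_notMem _ _ hm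
  have hK : (Finset.univ.filter (· ∈ K)).card = Nat.card K := by
    rw [Nat.card_eq_fintype_card, Fintype.card_subtype]
  have hC : (Finset.univ.filter fun x => x ∈ C ∧ x ∉ K).card = Nat.card K := by
    have h1 : (Finset.univ.filter (· ∈ C)).card = 2 * Nat.card K := by
      rw [← h.card, Nat.card_eq_fintype_card, Fintype.card_subtype]
    have h2 : Finset.univ.filter (fun x => x ∈ C ∧ x ∉ K) =
        Finset.univ.filter (· ∈ C) \ Finset.univ.filter (· ∈ K) := by
      ext x; simp
    rw [h2, Finset.card_sdiff_of_subset (fun x hx => by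
      simp only [Finset.mem_filter, Finset.mem_univ, true_and] at hx ⊢
      exact h.le hx), h1, hK]
    omega
  rw [Phi, indFun, Finset.sum_congr rfl fun x _ => hterm x, Finset.sum_add_distrib,
    ← Finset.sum_filter, ← Finset.sum_filter, Finset.sum_const, Finset.sum_const, hK, hC,
    nsmul_eq_mul, nsmul_eq_mul, ← mul_add, ← mul_assoc,
    inv_mul_cancel₀ (Nat.cast_ne_zero.2 Nat.card_pos.ne'), one_mul]
  ring

omit h in
theorem sum_hom_eq_zero (f : K →* ℂˣ) {s : K} (hs : f s ≠ 1) : ∑ k : K, (f k : ℂ) = 0 := by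
  have e : ∑ k : K, (f (s * k) : ℂ) = ∑ k : K, (f k : ℂ) :=
    Equiv.sum_comp (Equiv.mulLeft s) fun k => (f k : ℂ)
  simp only [map_mul, Units.val_mul, ← Finset.mul_sum] at e
  have h0 : ((f s : ℂ) - 1) * ∑ k : K, (f k : ℂ) = 0 := by rw [sub_mul, one_mul, e, sub_self]
  exact (mul_eq_zero.1 h0).resolve_left (sub_ne_zero.2 fun h1 => hs (Units.ext h1))

omit [Fintype G] h in
theorem conj_apply [Finite G] (k : K) : conj (l k : ℂ) = ((l k : ℂ))⁻¹ := by
  refine (Complex.inv_eq_conj (Complex.norm_eq_one_of_pow_eq_one ?_ (Nat.card_pos (α := K)).ne')).symm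
  rw [← Units.val_pow_eq_pow_val, ← map_pow, pow_card_eq_one', map_one, Units.val_one]

theorem isGen_phi : IsGeneralizedCharacter G (Phi l) := by
  refine IsGen.indFun ?_
  exact IsGen.sub (IsGen.of_isCharacter isCharacter_one)
    (IsGen.of_irr (isIrrCharacter_linear l))

theorem norm_phi : classInner (Phi l) (Phi l) = 3 := by
  obtain ⟨s, hs⟩ := h.order
  have hs1 : l s ≠ 1 := fun e => hs (by rw [e, one_mul])
  rw [Phi, frobenius_reciprocity K _ (isClassFunction_indFun K _), classInner]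
  have hterm : ∀ k : K, base l k * conj (indFun K (base l) (k : G)) =
      3 - 3 * (l k : ℂ) - ((l⁻¹ : K →* ℂˣ) k : ℂ) + ((l * l : K →* ℂˣ) k : ℂ) := by
    intro k
    have h0 : (l k : ℂ) ≠ 0 := Units.ne_zero _
    simp only [MonoidHom.inv_apply, MonoidHom.mul_apply, Units.val_mul, Units.val_inv_eq_inv_val]
    by_cases hk : l k = 1
    · rw [base, hk, Units.val_one, sub_self, zero_mul]; norm_num
    rw [show indFun K (base l) (k : G) = _ from phi_apply h hk, base, map_sub, map_sub, map_inv₀,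
      conj_apply k, inv_inv, map_ofNat]
    field_simp
    ring
  rw [Finset.sum_congr rfl fun k _ => hterm k, Finset.sum_add_distrib, Finset.sum_sub_distrib,
    Finset.sum_sub_distrib, ← Finset.mul_sum, sum_hom_eq_zero l hs1,
    sum_hom_eq_zero l⁻¹ (s := s) (by simpa using hs1),
    sum_hom_eq_zero (l * l) (s := s) (by simpa using hs), Finset.sum_const, Finset.card_univ,
    ← Nat.card_eq_fintype_card, nsmul_eq_mul, mul_zero, sub_zero, sub_zero, add_zero, ← mul_assoc,
    inv_mul_cancel₀ (Nat.cast_ne_zero.2 Nat.card_pos.ne'), one_mul]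

theorem phi_one : Phi l (1 : G) = 0 := by
  rw [Phi, indFun_apply_one, base, map_one, Units.val_one, sub_self, mul_zero]

theorem phi_z : Phi l z = 4 := by
  have hl := h.apply_z h.mem
  rw [show z = ((⟨z, h.mem⟩ : K) : G) from rfl, phi_apply h fun e => by
    rw [e, Units.val_one] at hl; norm_num at hl, hl]
  norm_num

theorem classInner_phi_irr (χ : IrrCharacter G) :
    classInner (Phi l) (χ : G → ℂ) =
      (Nat.card K : ℂ)⁻¹ * ∑ k : K, base l k * conj ((χ : G → ℂ) (k : G)) := by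
  rw [Phi, frobenius_reciprocity K _ (IsIrr.isClassFunction χ.2)]
  rfl

theorem classInner_phi_one : classInner (Phi l) ((trivChar G : IrrCharacter G) : G → ℂ) = 1 := by
  obtain ⟨s, hs⟩ := h.order
  simp only [classInner_phi_irr h, trivChar_apply, map_one, mul_one, base, Finset.sum_sub_distrib]
  rw [sum_hom_eq_zero l (s := s) (fun e => hs (by rw [e, one_mul])), sub_zero, Finset.sum_const,
    Finset.card_univ, ← Nat.card_eq_fintype_card, nsmul_eq_mul, mul_one,
    inv_mul_cancel₀ (Nat.cast_ne_zero.2 Nat.card_pos.ne')]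

omit h in
/-- Counting along the class of `z`. -/
theorem sum_conj_eq (z : G) (F : G → ℂ) :
    ∑ x : G, F (x * z * x⁻¹) = (Nat.card (Subgroup.centralizer ({z} : Set G)) : ℂ) *
      ∑ a ∈ Finset.univ.filter (fun a => IsConj z a), F a := by
  rw [← Finset.sum_fiberwise_of_maps_to (t := Finset.univ.filter fun a => IsConj z a)
    (g := fun x : G => x * z * x⁻¹) (fun x _ => Finset.mem_filter.2
      ⟨Finset.mem_univ _, isConj_iff.2 ⟨x, rfl⟩⟩), Finset.mul_sum]
  refine Finset.sum_congr rfl fun a ha => ?_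
  obtain ⟨g, hg⟩ := isConj_iff.1 (Finset.mem_filter.1 ha).2
  rw [Finset.sum_congr rfl fun x hx => by rw [(Finset.mem_filter.1 hx).2], Finset.sum_const,
    nsmul_eq_mul]
  congr 1
  rw [Nat.card_eq_fintype_card, Nat.cast_inj, ← Fintype.card_coe]
  refine Fintype.card_congr ((Equiv.mulLeft g⁻¹).subtypeEquiv fun x => ?_)
  simp only [Finset.mem_filter, Finset.mem_univ, true_and, Equiv.coe_mulLeft,
    Subgroup.mem_centralizer_singleton_iff]
  constructor
  · intro e
    rw [← hg] at e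
    calc g⁻¹ * x * z = g⁻¹ * (x * z * x⁻¹) * x := by group
      _ = g⁻¹ * (g * z * g⁻¹) * x := by rw [e]
      _ = z * (g⁻¹ * x) := by group
  · intro e
    rw [← hg]
    calc x * z * x⁻¹ = g * (g⁻¹ * x * z) * x⁻¹ := by group
      _ = g * (z * (g⁻¹ * x)) * x⁻¹ := by rw [e]
      _ = g * z * g⁻¹ := by group

/-- The number of reflections. -/
theorem sum_pairs (hz : orderOf z = 2) :
    ∑ a ∈ Finset.univ.filter (fun a => IsConj z a), ∑ b ∈ Finset.univ.filter (fun a => IsConj z a),
      extendByZero K (base l) (a * b) = ((refl z K).card : ℂ) ^ 2 := by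
  set C := Subgroup.centralizer ({z} : Set G)
  set R := refl z K with hRdef
  have hsub : R ⊆ Finset.univ.filter (fun a => IsConj z a) := fun a ha => by
    simp only [hRdef, refl, Finset.mem_filter, Finset.mem_univ, true_and] at ha ⊢
    exact ha.2.2
  have hzero : ∀ a, IsConj z a → ∀ b, IsConj z b →
      extendByZero K (base l) (a * b) ≠ 0 → a ∈ R ∧ b ∈ R := by
    intro a ha b hb hne
    have hm : a * b ∈ K := by
      by_contra hm
      exact hne (extendByZero_of_notMem _ _ hm)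
    rw [extendByZero_of_mem _ _ hm] at hne
    have hl : l ⟨_, hm⟩ ≠ 1 := fun e => hne (by rw [base, e, Units.val_one, sub_self])
    have ha' := inv_z h hz ha
    have hb' := inv_z h hz hb
    have e : a * (a * b) * a⁻¹ = (a * b)⁻¹ := by
      rw [mul_inv_rev, hb']
      calc a * (a * b) * a⁻¹ = a * a * b * a⁻¹ := by group
        _ = b * a⁻¹ := by rw [show a * a = 1 from mul_eq_one_iff_eq_inv.2 ha'.symm, one_mul]
    have hm' : a * (a * b) * a⁻¹ ∈ K := e ▸ inv_mem hm
    have haC : a ∈ C := h.ctrl ⟨_, hm⟩ a hm' hl (by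
      rw [show (⟨_, hm'⟩ : K) = ⟨_, hm⟩⁻¹ from Subtype.ext e, map_inv]
      simpa using hl)
    have hbC : b ∈ C := by
      have := mul_mem (inv_mem haC) (h.le hm)
      rwa [inv_mul_cancel_left] at this
    have haK : a ∉ K := fun haK => by
      have hbK : b ∈ K := by
        have := mul_mem (inv_mem haK) hm
        rwa [inv_mul_cancel_left] at this
      refine hl ?_
      rw [show (⟨_, hm⟩ : K) = 1 from Subtype.ext (by
        show a * b = 1
        rw [h.unique a haK ha, h.unique b hbK hb, ← pow_two, ← hz, pow_orderOf_eq_one]), map_one]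
    have hbK : b ∉ K := fun hbK => haK (by
      have := mul_mem hm (inv_mem hbK)
      rwa [mul_inv_cancel_right] at this)
    simp only [hRdef, refl, Finset.mem_filter, Finset.mem_univ, true_and]
    exact ⟨⟨haC, haK, ha⟩, hbC, hbK, hb⟩
  rw [← Finset.sum_subset hsub fun a ha hna => Finset.sum_eq_zero fun b hb => by
    by_contra hne
    exact hna (hzero a (Finset.mem_filter.1 ha).2 b (Finset.mem_filter.1 hb).2 hne).1]
  rw [Finset.sum_congr rfl fun a ha => (Finset.sum_subset hsub fun b hb hnb => by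
    by_contra hne
    exact hnb (hzero a (Finset.mem_filter.1 (hsub ha)).2 b (Finset.mem_filter.1 hb).2 hne).2).symm]
  have hab : ∀ a ∈ R, ∀ b ∈ R, a * b ∈ K := fun a ha b hb => by
    simp only [hRdef, refl, Finset.mem_filter, Finset.mem_univ, true_and] at ha hb
    exact h.prod_mem a b ha.1 ha.2.1 hb.1 hb.2.1
  -- the sum of `l` over the pairs vanishes
  set L : G → ℂ := extendByZero K (fun k => (l k : ℂ)) with hL
  have hS : ∑ a ∈ R, ∑ b ∈ R, L (a * b) = 0 := by
    obtain ⟨s, hs⟩ := h.order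
    have hmaps : ∀ a ∈ R, ∀ t : G, t ∈ K → t * a * t⁻¹ ∈ R := fun a ha t ht => by
      simp only [hRdef, refl, Finset.mem_filter, Finset.mem_univ, true_and] at ha ⊢
      refine ⟨mul_mem (mul_mem (h.le ht) ha.1) (inv_mem (h.le ht)), fun hm => ha.2.1 ?_,
        ha.2.2.trans (isConj_iff.2 ⟨t, rfl⟩)⟩
      have := mul_mem (mul_mem (inv_mem ht) hm) ht
      simpa [mul_assoc] using this
    have e : ∑ a ∈ R, ∑ b ∈ R, L ((s : G) * a * (s : G)⁻¹ * b) = ∑ a ∈ R, ∑ b ∈ R, L (a * b) := by
      refine Finset.sum_bij' (fun a _ => (s : G) * a * (s : G)⁻¹) (fun a _ => (s : G)⁻¹ * a * s)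
        (fun a ha => hmaps a ha s s.2)
        (fun a ha => by simpa using hmaps a ha (s : G)⁻¹ (inv_mem s.2)) ?_ ?_ ?_ <;>
      intros <;> simp [mul_assoc]
    have e2 : ∀ a ∈ R, ∀ b ∈ R, L ((s : G) * a * (s : G)⁻¹ * b) = (l s : ℂ) * l s * L (a * b) := by
      intro a ha b hb
      have ha0 := ha
      simp only [hRdef, refl, Finset.mem_filter, Finset.mem_univ, true_and] at ha0
      obtain ⟨hm, hl⟩ := h.invert a ha0.1 ha0.2.1 s⁻¹
      have hm' : (s : G) * a * (s : G)⁻¹ * b ∈ K := hab _ (hmaps a ha s s.2) b hb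
      rw [hL, extendByZero_of_mem _ _ hm', extendByZero_of_mem _ _ (hab a ha b hb),
        show (⟨_, hm'⟩ : K) = s * ⟨_, hm⟩ * ⟨_, hab a ha b hb⟩ from Subtype.ext (by
          simp [mul_assoc]), map_mul, map_mul, hl, map_inv, inv_inv, Units.val_mul, Units.val_mul]
    rw [Finset.sum_congr rfl fun a ha => Finset.sum_congr rfl fun b hb => e2 a ha b hb] at e
    simp only [← Finset.mul_sum] at e
    have h0 : ((l s : ℂ) * l s - 1) * ∑ a ∈ R, ∑ b ∈ R, L (a * b) = 0 := by
      rw [sub_mul, one_mul, e, sub_self]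
    refine (mul_eq_zero.1 h0).resolve_left (sub_ne_zero.2 fun h1 => hs (Units.ext ?_))
    rw [Units.val_mul, Units.val_one]
    exact h1
  rw [Finset.sum_congr rfl fun a ha => Finset.sum_congr rfl fun b hb =>
    show extendByZero K (base l) (a * b) = 1 - L (a * b) by
      rw [hL, extendByZero_of_mem _ _ (hab a ha b hb), extendByZero_of_mem _ _ (hab a ha b hb),
        base]]
  simp only [Finset.sum_sub_distrib, Finset.sum_const, nsmul_eq_mul, mul_one]
  rw [hS, sub_zero, sq]

/-- The count by characters. -/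
theorem card_refl_sq [Fintype (IrrCharacter G)] (hz : orderOf z = 2) :
    2 * (Nat.card (Subgroup.centralizer ({z} : Set G)) : ℂ) * ((refl z K).card : ℂ) ^ 2 =
      (Nat.card G : ℂ) * ∑ χ : IrrCharacter G,
        classInner (Phi l) (χ : G → ℂ) * ((χ : G → ℂ) z ^ 2 / (χ : G → ℂ) 1) := by
  set c : ℂ := (Nat.card (Subgroup.centralizer ({z} : Set G)) : ℂ) with hc
  set e := extendByZero K (base l) with he
  have h1 : ∑ x : G, ∑ y : G, e (x * z * x⁻¹ * (y * z * y⁻¹)) =
      c * c * ((refl z K).card : ℂ) ^ 2 := by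
    rw [← sum_pairs h hz, Finset.sum_congr rfl fun x _ => sum_conj_eq z fun b => e (x * z * x⁻¹ * b),
      ← Finset.mul_sum, sum_conj_eq z fun a => ∑ b ∈ _, e (a * b), ← he, mul_assoc]
  have h2 : ∀ w : G, ∑ x : G, ∑ y : G, e (w⁻¹ * (x * z * x⁻¹ * (y * z * y⁻¹)) * w) =
      ∑ x : G, ∑ y : G, e (x * z * x⁻¹ * (y * z * y⁻¹)) := fun w => by
    refine Fintype.sum_equiv (Equiv.mulLeft w⁻¹) _ _ fun x =>
      Fintype.sum_equiv (Equiv.mulLeft w⁻¹) _ _ fun y => ?_
    simp [mul_assoc]
  have h3 : (Nat.card G : ℂ) * ∑ x : G, ∑ y : G, e (x * z * x⁻¹ * (y * z * y⁻¹)) =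
      (Nat.card K : ℂ) * ∑ x : G, ∑ y : G, Phi l (x * z * x⁻¹ * (y * z * y⁻¹)) := by
    have hK : (Nat.card K : ℂ) ≠ 0 := Nat.cast_ne_zero.2 Nat.card_pos.ne'
    simp only [Phi, indFun, ← he]
    simp only [Finset.mul_sum (a := (Nat.card K : ℂ)), mul_inv_cancel_left₀ hK]
    conv_rhs => rw [Finset.sum_congr rfl fun x _ => Finset.sum_comm, Finset.sum_comm]
    rw [Finset.sum_congr rfl fun w _ => h2 w, Finset.sum_const, Finset.card_univ,
      ← Nat.card_eq_fintype_card, nsmul_eq_mul]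
  have h4 : ∑ x : G, ∑ y : G, Phi l (x * z * x⁻¹ * (y * z * y⁻¹)) =
      (Nat.card G : ℂ) * ((Nat.card G : ℂ) * ∑ χ : IrrCharacter G,
        classInner (Phi l) (χ : G → ℂ) * ((χ : G → ℂ) z ^ 2 / (χ : G → ℂ) 1)) := by
    have hcomb := classFunction_eq_sum (isClassFunction_indFun K (base l))
    rw [← Phi] at hcomb
    have hval : ∀ g, Phi l g = ∑ χ : IrrCharacter G, classInner (Phi l) (χ : G → ℂ) * (χ : G → ℂ) g :=
      fun g => by
        conv_lhs => rw [hcomb]
        simp [Finset.sum_apply]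
    simp only [hval]
    rw [Finset.sum_congr rfl fun x _ => Finset.sum_comm, Finset.sum_comm]
    simp only [Finset.mul_sum]
    refine Finset.sum_congr rfl fun χ _ => ?_
    simp only [← Finset.mul_sum]
    rw [Finset.sum_congr rfl fun x _ => Blocks.sum_char_mul_conj χ (x * z * x⁻¹) z]
    simp only [IsIrr.isClassFunction χ.2 z]
    rw [Finset.sum_const, Finset.card_univ, ← Nat.card_eq_fintype_card, nsmul_eq_mul]
    ring
  have hG0 : (Nat.card G : ℂ) ≠ 0 := Nat.cast_ne_zero.2 Nat.card_pos.ne'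
  have hK0 : (Nat.card K : ℂ) ≠ 0 := Nat.cast_ne_zero.2 Nat.card_pos.ne'
  have hcK : c = 2 * (Nat.card K : ℂ) := by rw [hc, h.card]; push_cast; rfl
  rw [h1, h4] at h3
  have h5 : c * c * ((refl z K).card : ℂ) ^ 2 = (Nat.card K : ℂ) * ((Nat.card G : ℂ) *
      ∑ χ : IrrCharacter G,
        classInner (Phi l) (χ : G → ℂ) * ((χ : G → ℂ) z ^ 2 / (χ : G → ℂ) 1)) :=
    mul_left_cancel₀ hG0 (h3.trans (by ring))
  refine mul_left_cancel₀ hK0 ?_
  rw [← h5, hcK]
  ring

/-- The three constituents and the resulting formula. -/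
theorem formula (hz : orderOf z = 2) {χ : IrrCharacter G} (hχ1 : (χ : G → ℂ) ≠ fun _ => 1)
    {δ : ℤ} (hδ : δ = 1 ∨ δ = -1) (hχz : (χ : G → ℂ) z = δ)
    (hsum : ∑ k : K, base l k * conj ((χ : G → ℂ) (k : G)) = (δ : ℂ) * Nat.card K) :
    ((charDegree (χ : G → ℂ) : ℤ) = δ → ∃ ψ : IrrCharacter G, (ψ : G → ℂ) 1 = 2 ∧ (ψ : G → ℂ) z = -2) ∧
      (Nat.card G : ℂ) * ((charDegree (χ : G → ℂ) : ℂ) - δ) ^ 2 =
        2 * (Nat.card (Subgroup.centralizer ({z} : Set G)) : ℂ) * ((refl z K).card : ℂ) ^ 2 *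
          ((charDegree (χ : G → ℂ) : ℂ) * ((charDegree (χ : G → ℂ) : ℂ) + δ)) := by
  have := Fintype.ofFinite (IrrCharacter G)
  have hne : χ ≠ trivChar G := fun e => hχ1 (by rw [e]; rfl)
  have hδ2 : ((δ : ℂ)) * δ = 1 := by rcases hδ with rfl | rfl <;> norm_num
  set a : IrrCharacter G → ℂ := fun ψ => classInner (Phi l) (ψ : G → ℂ) with ha
  have ha1 : a (trivChar G) = 1 := classInner_phi_one h
  have haχ : a χ = δ := by
    show classInner (Phi l) (χ : G → ℂ) = _
    rw [classInner_phi_irr h, hsum, mul_comm (δ : ℂ), ← mul_assoc,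
      inv_mul_cancel₀ (Nat.cast_ne_zero.2 Nat.card_pos.ne'), one_mul]
  set Ψ : G → ℂ := Phi l - ((trivChar G : IrrCharacter G) : G → ℂ) - (δ : ℂ) • (χ : G → ℂ) with hΨ
  have hgen : IsGeneralizedCharacter G Ψ :=
    IsGen.sub (IsGen.sub (isGen_phi h) (IsGen.of_irr (trivChar G).2))
      (IsGen.intCast_smul δ (IsGen.of_irr χ.2))
  have hn : classInner Ψ Ψ = 1 := by
    have e1 : classInner ((trivChar G : IrrCharacter G) : G → ℂ) (Phi l) = 1 := by
      rw [← classInner_conj_symm, show classInner (Phi l) ((trivChar G : IrrCharacter G) : G → ℂ) = 1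
        from ha1, map_one]
    have e2 : classInner (χ : G → ℂ) (Phi l) = δ := by
      rw [← classInner_conj_symm, show classInner (Phi l) (χ : G → ℂ) = δ from haχ, map_intCast]
    simp only [hΨ, classInner_sub_left, classInner_sub_right, classInner_smul_left,
      classInner_smul_right, map_intCast, norm_phi h, e1, e2,
      show classInner (Phi l) ((trivChar G : IrrCharacter G) : G → ℂ) = 1 from ha1,
      show classInner (Phi l) (χ : G → ℂ) = δ from haχ, classInner_irr_self,
      classInner_irr_of_ne hne, classInner_irr_of_ne hne.symm]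
    linear_combination (-1 : ℂ) * hδ2
  obtain ⟨ψ, ε, hε, hψε⟩ : ∃ (ψ : IrrCharacter G) (ε : ℤ), (ε = 1 ∨ ε = -1) ∧
      Ψ = (ε : ℂ) • (ψ : G → ℂ) := by
    rcases IsGen.isIrr_or_neg hgen hn with hi | hi
    · exact ⟨⟨Ψ, hi⟩, 1, Or.inl rfl, by simp⟩
    · exact ⟨⟨-Ψ, hi⟩, -1, Or.inr rfl, by simp⟩
  have hΦ : Phi l = ((trivChar G : IrrCharacter G) : G → ℂ) + (δ : ℂ) • (χ : G → ℂ) +
      (ε : ℂ) • (ψ : G → ℂ) := by rw [← hψε, hΨ]; abel
  set d : ℂ := (charDegree (χ : G → ℂ) : ℂ) with hd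
  set f : ℂ := (charDegree (ψ : G → ℂ) : ℂ) with hf
  have hdeg : 0 = 1 + (δ : ℂ) * d + (ε : ℂ) * f := by
    have e := congrFun hΦ 1
    simpa [phi_one h, trivChar_apply, apply_one_eq_charDegree] using e
  have hψz : (ε : ℂ) * (ψ : G → ℂ) z = 2 := by
    have e := congrFun hΦ z
    simp only [phi_z h, Pi.add_apply, Pi.smul_apply, smul_eq_mul, trivChar_apply, hχz, hδ2] at e
    linear_combination -e
  refine ⟨fun hdδ => ⟨ψ, ?_, ?_⟩, ?_⟩
  · have hd1 : d = δ := by rw [hd]; exact_mod_cast hdδ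
    rw [hd1, hδ2] at hdeg
    have hεf : (ε : ℤ) * (charDegree (ψ : G → ℂ) : ℤ) = -2 := by
      have : (ε : ℂ) * f = -2 := by linear_combination -hdeg
      rw [hf] at this
      exact_mod_cast this
    have := charDegree_pos ψ
    rw [apply_one_eq_charDegree]
    rcases hε with rfl | rfl
    · omega
    · rw [show charDegree (ψ : G → ℂ) = 2 by omega]; norm_num
  · have hd1 : d = δ := by rw [hd]; exact_mod_cast hdδ
    rw [hd1, hδ2] at hdeg
    rcases hε with rfl | rfl
    · have : f = -2 := by push_cast at hdeg; linear_combination -hdeg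
      rw [hf] at this
      have := congrArg Complex.re this
      rw [Complex.natCast_re] at this
      norm_num at this
      linarith [Nat.cast_nonneg (α := ℝ) (charDegree (ψ : G → ℂ))]
    · push_cast at hψz
      linear_combination -hψz
  · have hS : ∑ χ' : IrrCharacter G, a χ' * ((χ' : G → ℂ) z ^ 2 / (χ' : G → ℂ) 1) =
        1 + (δ : ℂ) * ((δ : ℂ) ^ 2 / d) + (ε : ℂ) * ((ψ : G → ℂ) z ^ 2 / f) := by
      have : ∀ χ' : IrrCharacter G, a χ' = (if trivChar G = χ' then 1 else 0) +
          (δ : ℂ) * (if χ = χ' then 1 else 0) + (ε : ℂ) * (if ψ = χ' then 1 else 0) := fun χ' => by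
        show classInner (Phi l) (χ' : G → ℂ) = _
        rw [hΦ, classInner_add_left, classInner_add_left, classInner_smul_left, classInner_smul_left,
          classInner_irr, classInner_irr, classInner_irr]
      simp only [this, add_mul, Finset.sum_add_distrib, mul_assoc, ite_mul, one_mul, zero_mul,
        mul_ite, mul_zero, Finset.sum_ite_eq, Finset.mem_univ, if_true]
      rw [trivChar_apply, trivChar_apply, apply_one_eq_charDegree, apply_one_eq_charDegree, hχz]
      norm_num
      rw [hd, hf]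
    have hd0 : d ≠ 0 := Nat.cast_ne_zero.2 (charDegree_pos χ).ne'
    have hf0 : f ≠ 0 := Nat.cast_ne_zero.2 (charDegree_pos ψ).ne'
    have hε2 : (ε : ℂ) * ε = 1 := by rcases hε with rfl | rfl <;> norm_num
    have key := card_refl_sq h hz
    rw [hS] at key
    have hεf : (ε : ℂ) * f = -(1 + (δ : ℂ) * d) := by linear_combination -hdeg
    rw [key]
    have h4 : (ε : ℂ) * ((ψ : G → ℂ) z ^ 2 / f) = 4 / ((ε : ℂ) * f) := by
      rw [eq_div_iff (mul_ne_zero (fun e0 => by rw [e0, zero_mul] at hε2; exact zero_ne_one hε2) hf0)]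
      field_simp
      linear_combination ((ε : ℂ) * (ψ : G → ℂ) z + 2) * hψz
    rw [h4, hεf]
    have h1d : 1 + (δ : ℂ) * d ≠ 0 := fun e0 => by
      rw [e0, neg_zero] at hεf
      exact (mul_ne_zero (fun e1 => by rw [e1, zero_mul] at hε2; exact zero_ne_one hε2) hf0) hεf
    rcases hδ with rfl | rfl <;> push_cast at h1d ⊢ <;> simp only [one_mul, neg_mul] at h1d ⊢ <;>
      field_simp <;> ring

end CfsgLib.Blocks.DihedralFormula
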